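import Cfsg.Agent.Lib.TwoTimesAlt.Squares
import Cfsg.Agent.Lib.Fusion.ThompsonTransfer
import Cfsg.Prelude.Def_TwoFusion
import Mathlib.Data.ZMod.Basic
import Mathlib.GroupTheory.Transfer
import Mathlib.GroupTheory.NoncommCoprod
import Mathlib.Tactic

/-!
# A 2-central involution with centraliser 2 × A_m
-/

set_option autoImplicit false

namespace CfsgLib.TwoTimesAlt

open Subgroup

variable {G : Type*} [Group G] {J : G} {T : Subgroup G}

/-- The centraliser as a product. -/
theorem exists_iso (hJ : orderOf J = 2) {m : ℕ} (hT : Nonempty (T ≃* alternatingGroup (Fin m)))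
    (hd : Cfsg.IsInternalDirectProduct (zpowers J) T (centralizer ({J} : Set G))) :
    ∃ j : Multiplicative (ZMod 2) × alternatingGroup (Fin m) →* G, Function.Injective j ∧
      centralizer ({J} : Set G) = j.range ∧ j (Multiplicative.ofAdd 1, 1) = J := by
  obtain ⟨e⟩ := hT
  obtain ⟨hJC, hTC, hcomm, hdis, hsup⟩ := hd
  have hJ2 : J * J = 1 := by rw [← pow_two, ← hJ, pow_orderOf_eq_one]
  have hpow : ∀ u v : Multiplicative (ZMod 2), J ^ (Multiplicative.toAdd (u * v)).val =
      J ^ (Multiplicative.toAdd u).val * J ^ (Multiplicative.toAdd v).val := by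
    intro u v
    rw [← pow_add, toAdd_mul, ZMod.val_add]
    exact (pow_eq_pow_mod _ (by rw [pow_two, hJ2])).symm
  let a : Multiplicative (ZMod 2) →* G := MonoidHom.mk' (fun u => J ^ (Multiplicative.toAdd u).val) hpow
  let b : alternatingGroup (Fin m) →* G := T.subtype.comp e.symm.toMonoidHom
  have hab : ∀ u v, Commute (a u) (b v) := fun u v =>
    hcomm _ (pow_mem (mem_zpowers J) _) _ (e.symm v).2
  let j : Multiplicative (ZMod 2) × alternatingGroup (Fin m) →* G :=
    MonoidHom.noncommCoprod a b hab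
  have hjJ : j (Multiplicative.ofAdd 1, 1) = J := by
    show a (Multiplicative.ofAdd 1) * b 1 = J
    rw [map_one b, mul_one]
    exact pow_one J
  refine ⟨j, ?_, ?_, hjJ⟩
  · rw [injective_iff_map_eq_one]
    rintro ⟨u, v⟩ h
    change a u * b v = 1 at h
    have h1 : a u ∈ zpowers J ⊓ T := Subgroup.mem_inf.mpr
      ⟨pow_mem (mem_zpowers J) _, by
        rw [eq_inv_of_mul_eq_one_left h]
        exact T.inv_mem (e.symm v).2⟩
    rw [hdis, mem_bot] at h1
    rw [h1, one_mul] at h
    have hv : v = 1 := by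
      have : e.symm v = 1 := Subtype.ext h
      exact e.symm.map_eq_one_iff.mp this
    refine Prod.ext ?_ hv
    have h2 : J ^ (Multiplicative.toAdd u).val = 1 := h1
    have h3 : (Multiplicative.toAdd u).val = 0 := by
      have := orderOf_dvd_of_pow_eq_one h2
      rw [hJ] at this
      have := ZMod.val_lt (Multiplicative.toAdd u)
      omega
    exact Multiplicative.toAdd.injective ((ZMod.val_eq_zero _).mp h3)
  · refine le_antisymm ?_ ?_
    · rw [← hsup, sup_le_iff, zpowers_le]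
      exact ⟨⟨_, hjJ⟩, fun x hx => ⟨(1, e ⟨x, hx⟩), by
        show a 1 * b (e ⟨x, hx⟩) = x
        rw [map_one, one_mul]
        show ((e.symm (e ⟨x, hx⟩) : T) : G) = x
        rw [e.symm_apply_apply]⟩⟩
    · rintro _ ⟨⟨u, v⟩, rfl⟩
      exact mul_mem (hJC (pow_mem (mem_zpowers J) _)) (hTC (e.symm v).2)

variable [Finite G]

/-- A Sylow 2-subgroup inside the centraliser, and the transfer. -/
theorem exists_conj_mem (h2 : ∀ N : Subgroup G, N.Normal → N.index ≠ 2) (hJ : orderOf J = 2)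
    (S : Sylow 2 G) (hJS : J ∈ (S : Subgroup G)) (hS : ∀ s ∈ (S : Subgroup G), s * J = J * s)
    (hd : Cfsg.IsInternalDirectProduct (zpowers J) T (centralizer ({J} : Set G))) :
    ∃ g : G, g * J * g⁻¹ ∈ T := by
  haveI : Fact (Nat.Prime 2) := ⟨Nat.prime_two⟩
  obtain ⟨-, hTC, hcomm, hdis, hsup⟩ := hd
  set Q : Subgroup G := (S : Subgroup G) ⊓ T with hQ
  have hJT : J ∉ T := fun h => by
    have : J ∈ zpowers J ⊓ T := ⟨mem_zpowers J, h⟩
    rw [hdis, mem_bot] at this
    rw [this, orderOf_one] at hJ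
    norm_num at hJ
  have hJ2 : J * J = 1 := by rw [← pow_two, ← hJ, pow_orderOf_eq_one]
  have hrel : Q.relIndex (S : Subgroup G) = 2 := by
    show (Q.subgroupOf (S : Subgroup G)).index = 2
    rw [Subgroup.index_eq_two_iff]
    refine ⟨⟨J, hJS⟩, fun s => ?_⟩
    have hs : (s : G) ∈ zpowers J ⊔ T := by
      rw [hsup, mem_centralizer_singleton_iff]; exact hS s s.2
    obtain ⟨i, τ, hτ, hsτ⟩ : ∃ i : ℤ, ∃ τ ∈ T, (s : G) = J ^ i * τ := by
      rw [← SetLike.mem_coe, Subgroup.coe_mul_of_left_le_normalizer_right] at hs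
      · obtain ⟨a, ⟨i, rfl⟩, τ, hτ, he⟩ := hs
        exact ⟨i, τ, hτ, he.symm⟩
      · rw [zpowers_le, mem_normalizer_iff]
        intro x
        constructor
        · intro hx
          rwa [hcomm J (mem_zpowers J) x hx, mul_inv_cancel_right]
        · intro hx
          have h := hcomm J (mem_zpowers J) _ hx
          have e : x = J * x * J⁻¹ := by
            calc x = J⁻¹ * (J * x * J⁻¹ * J) := by group
              _ = J⁻¹ * (J * (J * x * J⁻¹)) := by rw [h]
              _ = J * x * J⁻¹ := by group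
          rw [e]; exact hx
    have hτS : τ ∈ (S : Subgroup G) := by
      have : τ = (J ^ i)⁻¹ * s := by rw [hsτ]; group
      rw [this]
      exact mul_mem (inv_mem (zpow_mem hJS i)) s.2
    have hor : J ^ i = 1 ∨ J ^ i = J := by
      rcases Int.even_or_odd i with ⟨l, rfl⟩ | ⟨l, rfl⟩
      · left
        rw [← two_mul, zpow_mul, zpow_two, hJ2, one_zpow]
      · right
        rw [zpow_add, zpow_mul, zpow_two, hJ2, one_zpow, one_mul, zpow_one]
    simp only [mem_subgroupOf, Subgroup.coe_mul, hQ, mem_inf]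
    rcases hor with e | e <;> rw [e] at hsτ
    · rw [one_mul] at hsτ
      refine Or.inr ⟨⟨s.2, hsτ ▸ hτ⟩, fun h => hJT ?_⟩
      have := mul_mem (inv_mem hτ) h.2
      rwa [hsτ, ← mul_assoc, inv_mul_cancel, one_mul] at this
    · refine Or.inl ⟨⟨mul_mem s.2 hJS, ?_⟩, fun h => hJT ?_⟩
      · rw [hsτ, hcomm J (mem_zpowers J) τ hτ, mul_assoc, hJ2, mul_one]; exact hτ
      · have := mul_mem h.2 (inv_mem hτ)
        rwa [hsτ, mul_inv_cancel_right] at this
  by_contra hno
  push Not at hno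
  have hodd : Odd (S : Subgroup G).index := by
    rw [← Nat.not_even_iff_odd, even_iff_two_dvd]
    exact S.not_dvd_index
  obtain ⟨N, hN, hN2, -⟩ := ThompsonTransfer.exists_normal_index_two (S : Subgroup G) Q hodd hrel J
    (by rw [pow_two, hJ2]) (fun g hg => hno g hg.2)
  exact h2 N hN hN2

/-- The degree is 4 or 5. -/
theorem degree_cases (hns : ¬ Group.IsSolvable G) (h2 : ∀ N : Subgroup G, N.Normal → N.index ≠ 2)
    (hJ : orderOf J = 2) (S : Sylow 2 G) (hJS : J ∈ (S : Subgroup G))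
    (hS : ∀ s ∈ (S : Subgroup G), s * J = J * s) {m : ℕ} (hT : Nonempty (T ≃* alternatingGroup (Fin m)))
    (hd : Cfsg.IsInternalDirectProduct (zpowers J) T (centralizer ({J} : Set G))) : m = 4 ∨ m = 5 := by
  obtain ⟨g, hg⟩ := exists_conj_mem h2 hJ S hJS hS hd
  obtain ⟨e⟩ := hT
  have hx2 : g * J * g⁻¹ * (g * J * g⁻¹) = 1 := by
    rw [show g * J * g⁻¹ * (g * J * g⁻¹) = g * (J * J) * g⁻¹ by group, ← pow_two, ← hJ, pow_orderOf_eq_one]
    group
  have hx1 : g * J * g⁻¹ ≠ 1 := fun h => by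
    rw [mul_inv_eq_one, mul_eq_left] at h
    rw [h, orderOf_one] at hJ
    norm_num at hJ
  rcases Nat.lt_or_ge m 4 with hm | hm
  · exfalso
    have h3 : 2 ∣ Nat.card T := by
      rw [← orderOf_eq_prime (p := 2) (x := (⟨_, hg⟩ : T)) (by rw [pow_two]; exact Subtype.ext hx2)
        (fun h => hx1 (congrArg Subtype.val h))]
      exact orderOf_dvd_natCard _
    rw [Nat.card_congr e.toEquiv] at h3
    rw [Nat.card_eq_fintype_card] at h3
    interval_cases m <;> revert h3 <;> decide +kernel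
  by_contra hne
  push Not at hne
  have h6 : 6 ≤ m := by omega
  set σ : Equiv.Perm (Fin m) := ((e ⟨_, hg⟩ : alternatingGroup (Fin m)) : Equiv.Perm (Fin m)) with hσ
  have hσ2 : σ * σ = 1 := by
    have : (⟨_, hg⟩ : T) * ⟨_, hg⟩ = 1 := Subtype.ext hx2
    rw [hσ, ← Subgroup.coe_mul, ← map_mul, this, map_one, Subgroup.coe_one]
  have hmem := mem_squareSub (by simpa using h6) hσ2 (Equiv.Perm.mem_alternatingGroup.mp (e ⟨_, hg⟩).2)
  obtain ⟨hJC, hTC, hcomm, hdis, hsup⟩ := hd
  -- elements of `T` whose conjugates lie in `T`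
  let K : Subgroup (Equiv.Perm (Fin m)) :=
    ((T.comap (MulAut.conj g⁻¹).toMonoidHom).subgroupOf T).map ((alternatingGroup (Fin m)).subtype.comp e.toMonoidHom)
  have hle : squareSub σ ≤ K := by
    refine (Subgroup.closure_le _).mpr ?_
    rintro _ ⟨w, hws, hwx, rfl⟩
    set τ : T := e.symm ⟨w, Equiv.Perm.mem_alternatingGroup.mpr hws⟩ with hτ
    have hτc : τ * ⟨_, hg⟩ = ⟨_, hg⟩ * τ := e.injective (Subtype.ext (by
      rw [map_mul, map_mul, Subgroup.coe_mul, Subgroup.coe_mul, hτ, e.apply_symm_apply]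
      exact hwx))
    have hτc' : (τ : G) * (g * J * g⁻¹) = g * J * g⁻¹ * τ := congrArg Subtype.val hτc
    have hcJ : g⁻¹ * τ * g ∈ centralizer ({J} : Set G) := mem_centralizer_singleton_iff.mpr (by
      calc g⁻¹ * τ * g * J = g⁻¹ * ((τ : G) * (g * J * g⁻¹)) * g := by group
        _ = g⁻¹ * (g * J * g⁻¹ * τ) * g := by rw [hτc']
        _ = J * (g⁻¹ * τ * g) := by group)
    rw [← hsup, ← SetLike.mem_coe, Subgroup.coe_mul_of_left_le_normalizer_right] at hcJ
    swap
    · rw [zpowers_le, mem_normalizer_iff]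
      intro x
      constructor
      · intro hx
        rwa [hcomm J (mem_zpowers J) x hx, mul_inv_cancel_right]
      · intro hx
        have h := hcomm J (mem_zpowers J) _ hx
        have e : x = J * x * J⁻¹ := by
          calc x = J⁻¹ * (J * x * J⁻¹ * J) := by group
            _ = J⁻¹ * (J * (J * x * J⁻¹)) := by rw [h]
            _ = J * x * J⁻¹ := by group
        rw [e]; exact hx
    obtain ⟨a, ⟨i, rfl⟩, b, hb, he⟩ := hcJ
    refine ⟨τ * τ, ?_, ?_⟩
    · show (MulAut.conj g⁻¹).toMonoidHom ((τ * τ : T) : G) ∈ T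
      simp only [MulEquiv.coe_toMonoidHom, MulAut.conj_apply, inv_inv, Subgroup.coe_mul]
      rw [show g⁻¹ * ((τ : G) * τ) * g = (g⁻¹ * τ * g) * (g⁻¹ * τ * g) by group, ← he]
      simp only
      have hJi : J ^ i * J ^ i = 1 := by
        rw [← zpow_add, ← two_mul, zpow_mul, show J ^ (2 : ℤ) = 1 by
          rw [show (2 : ℤ) = ((2 : ℕ) : ℤ) from rfl, zpow_natCast, ← hJ, pow_orderOf_eq_one], one_zpow]
      have hc : b * J ^ i = J ^ i * b := (hcomm _ (zpow_mem (mem_zpowers J) i) b hb).symm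
      rw [show J ^ i * b * (J ^ i * b) = J ^ i * (b * J ^ i) * b by group, hc,
        show J ^ i * (J ^ i * b) * b = J ^ i * J ^ i * (b * b) by group, hJi, one_mul]
      exact mul_mem hb hb
    · show ((e (τ * τ) : alternatingGroup (Fin m)) : Equiv.Perm (Fin m)) = w * w
      rw [hτ, map_mul, e.apply_symm_apply]
      rfl
  obtain ⟨τ, hτK, hτe⟩ := hle hmem
  have hτ : τ = ⟨_, hg⟩ := e.injective (Subtype.ext hτe)
  rw [hτ] at hτK
  have hJT : J ∈ T := by
    change (MulAut.conj g⁻¹).toMonoidHom (g * J * g⁻¹) ∈ T at hτK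
    simpa [MulAut.conj_apply, mul_assoc] using hτK
  have : J ∈ zpowers J ⊓ T := ⟨mem_zpowers J, hJT⟩
  rw [hdis, mem_bot] at this
  rw [this, orderOf_one] at hJ
  norm_num at hJ

end CfsgLib.TwoTimesAlt
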