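import Mathlib.GroupTheory.SpecificGroups.Alternating
import Mathlib.GroupTheory.Perm.Support
import Mathlib.Tactic.Group

/-!
# Every even involution is a product of squares of even permutations commuting with it (degree at least 6)
-/

set_option autoImplicit false

namespace CfsgLib.TwoTimesAlt

open Equiv Equiv.Perm

variable {α : Type*} [Fintype α] [DecidableEq α]

/-- The subgroup generated by the squares of the even permutations commuting with `x`. -/
def squareSub (x : Perm α) : Subgroup (Perm α) :=
  Subgroup.closure {y | ∃ w : Perm α, sign w = 1 ∧ w * x = x * w ∧ w * w = y}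

omit [Fintype α] in
theorem four_cycle_sq {a b c d : α} (hab : a ≠ b) (hac : a ≠ c) (had : a ≠ d) (hbc : b ≠ c) (hbd : b ≠ d)
    (hcd : c ≠ d) :
    (swap a c * swap c b * swap b d) * (swap a c * swap c b * swap b d) = swap a b * swap c d ∧
      swap b d * swap d a * swap a c = swap a c * swap c b * swap b d := by
  constructor <;>
  · ext i
    simp only [Perm.mul_apply]
    rcases eq_or_ne i a with rfl | hia
    · simp [swap_apply_of_ne_of_ne, hab, hac, had, hbc, hbd, hcd, hab.symm, hac.symm, had.symm, hbc.symm, hbd.symm, hcd.symm]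
    rcases eq_or_ne i b with rfl | hib
    · simp [swap_apply_of_ne_of_ne, hab, hac, had, hbc, hbd, hcd, hab.symm, hac.symm, had.symm, hbc.symm, hbd.symm, hcd.symm]
    rcases eq_or_ne i c with rfl | hic
    · simp [swap_apply_of_ne_of_ne, hab, hac, had, hbc, hbd, hcd, hab.symm, hac.symm, had.symm, hbc.symm, hbd.symm, hcd.symm]
    rcases eq_or_ne i d with rfl | hid
    · simp [swap_apply_of_ne_of_ne, hab, hac, had, hbc, hbd, hcd, hab.symm, hac.symm, had.symm, hbc.symm, hbd.symm, hcd.symm]
    · simp [swap_apply_of_ne_of_ne, hia, hib, hic, hid]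

theorem pair_mem (h6 : 6 ≤ Fintype.card α) {x : Perm α} (hx : x * x = 1) {a b c d : α}
    (hxa : x a = b) (hxc : x c = d) (hab : a ≠ b) (hac : a ≠ c) (had : a ≠ d) (hbc : b ≠ c) (hbd : b ≠ d)
    (hcd : c ≠ d) : swap a b * swap c d ∈ squareSub x := by
  have hxx : ∀ i, x (x i) = i := fun i => by rw [← Perm.mul_apply, hx, Perm.one_apply]
  have hxb : x b = a := by rw [← hxa, hxx]
  have hxd : x d = c := by rw [← hxc, hxx]
  have hconj : ∀ i j, x * swap i j * x⁻¹ = swap (x i) (x j) := fun i j => by
    rw [swap_apply_apply]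
  -- a further transposition commuting with `x`
  obtain ⟨e, g, heg, hes, hgs, hxs⟩ : ∃ e g, e ≠ g ∧ e ∉ ({a, b, c, d} : Finset α) ∧
      g ∉ ({a, b, c, d} : Finset α) ∧ ((x e = g ∧ x g = e) ∨ (x e = e ∧ x g = g)) := by
    set T : Finset α := Finset.univ \ {a, b, c, d} with hT
    have hT2 : 1 < T.card := by
      have h1 : ({a, b, c, d} : Finset α).card ≤ 4 := Finset.card_le_four
      rw [hT, Finset.card_univ_diff]
      omega
    by_cases hmove : ∃ e ∈ T, x e ≠ e
    · obtain ⟨e, he, hne⟩ := hmove
      refine ⟨e, x e, hne.symm, (Finset.mem_sdiff.mp he).2, fun hm => ?_, Or.inl ⟨rfl, hxx e⟩⟩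
      refine (Finset.mem_sdiff.mp he).2 ?_
      simp only [Finset.mem_insert, Finset.mem_singleton] at hm ⊢
      rcases hm with h | h | h | h <;>
        rw [← hxx e, h] <;> simp [hxa, hxb, hxc, hxd]
    · push Not at hmove
      obtain ⟨e, he, g, hg, heg⟩ := Finset.one_lt_card.mp hT2
      exact ⟨e, g, heg, (Finset.mem_sdiff.mp he).2, (Finset.mem_sdiff.mp hg).2, Or.inr ⟨hmove e he, hmove g hg⟩⟩
  set u := swap a c * swap c b * swap b d with hu
  obtain ⟨hsq, hrot⟩ := four_cycle_sq hab hac had hbc hbd hcd
  have hswap : x * swap e g * x⁻¹ = swap e g := by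
    rw [hconj]
    rcases hxs with ⟨h1, h2⟩ | ⟨h1, h2⟩
    · rw [h1, h2, swap_comm]
    · rw [h1, h2]
  have hux : x * u * x⁻¹ = u := by
    rw [hu, show x * (swap a c * swap c b * swap b d) * x⁻¹ =
      (x * swap a c * x⁻¹) * (x * swap c b * x⁻¹) * (x * swap b d * x⁻¹) by group, hconj, hconj, hconj,
      hxa, hxb, hxc, hxd]
    exact hrot
  have hdisj : swap e g * u = u * swap e g := by
    simp only [Finset.mem_insert, Finset.mem_singleton, not_or] at hes hgs
    have h : ∀ p q, p ≠ e → p ≠ g → q ≠ e → q ≠ g → swap e g * swap p q = swap p q * swap e g := by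
      intro p q h1 h2 h3 h4
      rw [← mul_inv_eq_iff_eq_mul, ← swap_apply_apply, swap_apply_of_ne_of_ne h1 h2, swap_apply_of_ne_of_ne h3 h4]
    obtain ⟨ha1, hb1, hc1, hd1⟩ := hes
    obtain ⟨ha2, hb2, hc2, hd2⟩ := hgs
    rw [hu, ← mul_assoc, ← mul_assoc, h a c (Ne.symm ha1) (Ne.symm ha2) (Ne.symm hc1) (Ne.symm hc2),
      mul_assoc (swap a c), h c b (Ne.symm hc1) (Ne.symm hc2) (Ne.symm hb1) (Ne.symm hb2), ← mul_assoc,
      mul_assoc (swap a c * swap c b), h b d (Ne.symm hb1) (Ne.symm hb2) (Ne.symm hd1) (Ne.symm hd2),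
      ← mul_assoc]
  refine Subgroup.subset_closure ⟨u * swap e g, ?_, ?_, ?_⟩
  · rw [hu]
    simp [Perm.sign_mul, sign_swap, hac, hbc.symm, hbd, heg]
  · refine (mul_inv_eq_iff_eq_mul.mp ?_).symm
    rw [show x * (u * swap e g) * x⁻¹ = (x * u * x⁻¹) * (x * swap e g * x⁻¹) by group, hux, hswap]
  · rw [mul_assoc, ← mul_assoc (swap e g), hdisj, mul_assoc u, swap_mul_self, mul_one]
    exact hsq

/-- An even involution lies in the subgroup generated by the squares of its even centraliser. -/
theorem mem_squareSub (h6 : 6 ≤ Fintype.card α) {x : Perm α} (hx : x * x = 1) (hs : sign x = 1) :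
    x ∈ squareSub x := by
  suffices H : ∀ (n : ℕ) (y : Perm α), y.support.card ≤ n → y * y = 1 → sign y = 1 →
      (∀ i, y i ≠ i → y i = x i) → y ∈ squareSub x from H _ x le_rfl hx hs fun _ _ => rfl
  intro n
  induction n with
  | zero =>
    intro y hn _ _ _
    rw [show y = 1 from support_eq_empty_iff.mp (Finset.card_eq_zero.mp (Nat.le_zero.mp hn))]
    exact one_mem _
  | succ n ih =>
    intro y hn hy hsy hagree
    by_cases hy1 : y = 1
    · rw [hy1]; exact one_mem _
    have hyy : ∀ i, y (y i) = i := fun i => by rw [← Perm.mul_apply, hy, Perm.one_apply]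
    obtain ⟨a, ha⟩ : ∃ a, y a ≠ a := by
      by_contra h
      push Not at h
      exact hy1 (Equiv.ext h)
    set b := y a with hb
    have hyb : y b = a := hyy a
    obtain ⟨c, hca, hcb, hc⟩ : ∃ c, c ≠ a ∧ c ≠ b ∧ y c ≠ c := by
      by_contra h
      push Not at h
      have : y = swap a b := by
        ext i
        rcases eq_or_ne i a with rfl | hia
        · rw [swap_apply_left]
        rcases eq_or_ne i b with rfl | hib
        · rw [swap_apply_right, hyb]
        · rw [swap_apply_of_ne_of_ne hia hib, h i hia hib]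
      rw [this, sign_swap ha.symm] at hsy
      exact absurd hsy (by decide)
    set d := y c with hd
    have hyd : y d = c := hyy c
    have hda : d ≠ a := fun e => hcb (by rw [← hyd, e])
    have hdb : d ≠ b := fun e => hca (by rw [← hyd, e, hyb])
    have hP := pair_mem h6 hx (hagree a ha).symm (hagree c hc).symm ha.symm hca.symm hda.symm hcb.symm hdb.symm hc.symm
    set y' := swap a b * swap c d * y with hy'
    have hval : ∀ i, y' i = if i = a ∨ i = b ∨ i = c ∨ i = d then i else y i := by
      intro i
      rw [hy', Perm.mul_apply, Perm.mul_apply]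
      split_ifs with h
      · rcases h with rfl | rfl | rfl | rfl
        · rw [← hb, swap_apply_of_ne_of_ne hcb.symm hdb.symm, swap_apply_right]
        · rw [hyb, swap_apply_of_ne_of_ne hca.symm hda.symm, swap_apply_left]
        · rw [← hd, swap_apply_right, swap_apply_of_ne_of_ne hca hcb]
        · rw [hyd, swap_apply_left, swap_apply_of_ne_of_ne hda hdb]
      · push Not at h
        obtain ⟨h1, h2, h3, h4⟩ := h
        have e1 : y i ≠ a := fun e => h2 (by rw [hb, ← e, hyy])
        have e2 : y i ≠ b := fun e => h1 (y.injective (e.trans hb))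
        have e3 : y i ≠ c := fun e => h4 (by rw [hd, ← e, hyy])
        have e4 : y i ≠ d := fun e => h3 (y.injective (e.trans hd))
        rw [swap_apply_of_ne_of_ne e3 e4, swap_apply_of_ne_of_ne e1 e2]
    have hsub : y'.support ⊆ y.support.erase a := by
      intro i hi
      rw [mem_support, hval] at hi
      split_ifs at hi with h
      · exact absurd rfl hi
      · push Not at h
        exact Finset.mem_erase.mpr ⟨h.1, mem_support.mpr hi⟩
    have hcard : y'.support.card ≤ n := by
      refine (Finset.card_le_card hsub).trans ?_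
      rw [Finset.card_erase_of_mem (mem_support.mpr ha)]
      omega
    have hy'2 : y' * y' = 1 := by
      ext i
      rw [Perm.mul_apply, Perm.one_apply, hval i]
      split_ifs with h
      · rw [hval i, if_pos h]
      · rw [hval (y i), if_neg ?_, hyy]
        push Not at h ⊢
        obtain ⟨h1, h2, h3, h4⟩ := h
        exact ⟨fun e => h2 (by rw [hb, ← e, hyy]), fun e => h1 (y.injective (e.trans hb)),
          fun e => h4 (by rw [hd, ← e, hyy]), fun e => h3 (y.injective (e.trans hd))⟩
    have hs' : sign y' = 1 := by simp [hy', Perm.sign_mul, sign_swap, ha.symm, hc.symm, hsy, hcb, hdb, hca, hda]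
    have hag' : ∀ i, y' i ≠ i → y' i = x i := by
      intro i hi
      rw [hval] at hi ⊢
      split_ifs at hi ⊢ with h
      · exact absurd rfl hi
      · exact hagree i hi
    have hmem := mul_mem (inv_mem hP) (ih y' hcard hy'2 hs' hag')
    rwa [hy', ← mul_assoc, inv_mul_cancel, one_mul] at hmem

end CfsgLib.TwoTimesAlt
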